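import Mathlib

set_option autoImplicit false

namespace Groth.Agent.H5.ET

open TensorProduct

universe u

section RF

variable {R S : Type*} [CommRing R] [CommRing S] [Algebra R S] (p : Ideal R) [p.IsPrime]
  (q : Ideal S) [q.IsPrime] [q.LiesOver p]

theorem residueFieldMap_surjective (H : ∀ x : S, ∃ a : R, x - algebraMap R S a ∈ q) :
    Function.Surjective (Ideal.ResidueField.map p q (algebraMap R S) (q.over_def p)) := by
  intro z
  obtain ⟨x, s, hs, rfl⟩ := IsFractionRing.div_surjective (A := S ⧸ q) z
  obtain ⟨x, rfl⟩ := Ideal.Quotient.mk_surjective x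
  obtain ⟨s, rfl⟩ := Ideal.Quotient.mk_surjective s
  obtain ⟨a, ha⟩ := H x
  obtain ⟨b, hb⟩ := H s
  have hxa : Ideal.Quotient.mk q x = Ideal.Quotient.mk q (algebraMap R S a) :=
    Ideal.Quotient.eq.mpr ha
  have hsb : Ideal.Quotient.mk q s = Ideal.Quotient.mk q (algebraMap R S b) :=
    Ideal.Quotient.eq.mpr hb
  refine ⟨algebraMap R p.ResidueField a / algebraMap R p.ResidueField b, ?_⟩
  rw [map_div₀, Ideal.ResidueField.map_algebraMap, Ideal.ResidueField.map_algebraMap, hxa, hsb]
  rfl

theorem algebraMap_residueField_surjective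
    [Algebra (Localization.AtPrime p) (Localization.AtPrime q)]
    [Localization.AtPrime.IsLiesOverAlgebra p q]
    (H : ∀ x : S, ∃ a : R, x - algebraMap R S a ∈ q) :
    Function.Surjective (algebraMap p.ResidueField q.ResidueField) := by
  have h1 := residueFieldMap_surjective p q H
  have h2 : ∀ z, (algebraMap p.ResidueField q.ResidueField) z =
      Ideal.ResidueField.map p q (algebraMap R S) (q.over_def p) z := by
    intro z
    obtain ⟨y, rfl⟩ := IsLocalRing.residue_surjective z
    change IsLocalRing.residue _ (algebraMap _ _ y) =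
      IsLocalRing.residue _ (Localization.localRingHom p q _ _ y)
    rw [Localization.AtPrime.IsLiesOverAlgebra.algebraMap_eq]
  intro w
  obtain ⟨z, hz⟩ := h1 w
  exact ⟨z, (h2 z).trans hz⟩

end RF

end Groth.Agent.H5.ET
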