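import Mathlib
import Groth.Agent.Lib.Helper5.ET.A
import Groth.Agent.Lib.Helper5.ET.B

set_option autoImplicit false

namespace Groth.Agent.H5.ET

open TensorProduct

universe u

section KG

variable {R S : Type*} [CommRing R] [CommRing S] [Algebra R S] {p : Ideal R} [p.IsPrime]
  {q : Ideal S} [q.IsPrime]

theorem exists_smul_mem_range_of_unramified (hq : p.primesOver S = {q})
    [Module.Finite R S] [q.LiesOver p] [Algebra.IsUnramifiedAt R q]
    (H : ∀ x : S, ∃ a : R, x - algebraMap R S a ∈ q) :
    ∃ g ∉ p, ∀ x : S, ∃ a : R, g • x = algebraMap R S a := by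
  letI := Localization.AtPrime.algebraOfLiesOver p q
  have h1 := Localization.localRingHom_surjective_of_primesOver_eq_singleton hq
    (algebraMap_residueField_surjective p q H)
  exact exists_smul_mem_range hq h1

end KG

end Groth.Agent.H5.ET
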