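import Mathlib
import Groth.Agent.Lib.Helper5.ET.A

set_option autoImplicit false

namespace Groth.Agent.H5.ET

open TensorProduct

universe u

section UBC

variable {R S R' : Type*} [CommRing R] [CommRing S] [Algebra R S] [CommRing R'] [Algebra R R']

/-- Base change of "unramified at a prime". -/
theorem isUnramifiedAt_baseChange [Algebra.EssFiniteType R S] (q : Ideal S) [q.IsPrime]
    [Algebra.IsUnramifiedAt R q] (Q : Ideal (R' ⊗[R] S)) [Q.IsPrime]
    (hQ : Q.comap (Algebra.TensorProduct.includeRight : S →ₐ[R] R' ⊗[R] S).toRingHom = q) :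
    Algebra.IsUnramifiedAt R' Q := by
  obtain ⟨s, hsq, hs⟩ := Algebra.exists_formallyUnramified_of_isUnramifiedAt (R := R) q
  have hsQ : (1 : R') ⊗ₜ[R] s ∉ Q := by
    intro h
    apply hsq
    rw [← hQ]
    exact h
  let f₀ : S →ₐ[R] Localization.AtPrime Q :=
    (IsScalarTower.toAlgHom R (R' ⊗[R] S) (Localization.AtPrime Q)).comp
      Algebra.TensorProduct.includeRight
  have hf₀ : IsUnit (f₀ s) :=
    IsLocalization.map_units (M := Q.primeCompl) (Localization.AtPrime Q) ⟨_, hsQ⟩
  let g₀ : Localization.Away s →ₐ[R] Localization.AtPrime Q :=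
    IsLocalization.Away.liftAlgHom s hf₀
  let h : R' ⊗[R] Localization.Away s →ₐ[R'] Localization.AtPrime Q :=
    Algebra.TensorProduct.lift (Algebra.ofId R' _) g₀ (fun _ _ => Commute.all _ _)
  let ι : R' ⊗[R] S →ₐ[R'] R' ⊗[R] Localization.Away s :=
    Algebra.TensorProduct.map (AlgHom.id R' R') (IsScalarTower.toAlgHom R S (Localization.Away s))
  have hι : ∀ t : R' ⊗[R] S, h (ι t) = algebraMap _ (Localization.AtPrime Q) t := by
    intro t
    induction t using TensorProduct.induction_on with
    | zero => simp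
    | add x y hx hy => rw [map_add, map_add, map_add, hx, hy]
    | tmul a b =>
      have h1 : ι (a ⊗ₜ[R] b) = a ⊗ₜ[R] (algebraMap S (Localization.Away s) b) := by
        simp only [ι, Algebra.TensorProduct.map_tmul, AlgHom.id_apply,
          IsScalarTower.coe_toAlgHom']
      have h2 : h (a ⊗ₜ[R] (algebraMap S (Localization.Away s) b)) =
          algebraMap R' (Localization.AtPrime Q) a * g₀ (algebraMap S (Localization.Away s) b) := by
        simp only [h, Algebra.TensorProduct.lift_tmul, Algebra.ofId_apply]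
      have h3 : g₀ (algebraMap S (Localization.Away s) b) = f₀ b := by
        simp only [g₀, IsLocalization.Away.coe_liftAlgHom]
        exact IsLocalization.Away.lift_eq s hf₀ b
      have h4 : f₀ b = algebraMap (R' ⊗[R] S) (Localization.AtPrime Q) ((1 : R') ⊗ₜ[R] b) := rfl
      have h5 : (a ⊗ₜ[R] b : R' ⊗[R] S) = a • ((1 : R') ⊗ₜ[R] b) := by
        rw [TensorProduct.smul_tmul', smul_eq_mul, mul_one]
      rw [h1, h2, h3, h4, h5, Algebra.smul_def, map_mul, ← IsScalarTower.algebraMap_apply]
  apply formallyUnramified_of_fractions h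
  intro x
  obtain ⟨t, u, rfl⟩ := IsLocalization.exists_mk'_eq Q.primeCompl x
  refine ⟨ι t, ι u.1, ?_, ?_⟩
  · rw [hι]
    exact IsLocalization.map_units (M := Q.primeCompl) _ u
  · rw [hι, hι, IsLocalization.mk'_spec]

end UBC

end Groth.Agent.H5.ET
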