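import Mathlib
import Groth.Agent.Lib.Helper5.ET.C

set_option autoImplicit false

namespace Groth.Agent.H5.ET

open TensorProduct

universe u

section K

variable {R' T : Type*} [CommRing R'] [CommRing T] [Algebra R' T] (P : Ideal R') [P.IsPrime]
  (e : T) (he : IsIdempotentElem e) (P' : Ideal T) [P'.IsPrime] [P'.LiesOver P]

include he in
theorem one_sub_mem_of_notMem (heP' : e ∉ P') : 1 - e ∈ P' := by
  have h0 : e * (1 - e) = 0 := by rw [mul_sub, mul_one, he.eq, sub_self]
  have h1 : e * (1 - e) ∈ P' := by rw [h0]; exact P'.zero_mem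
  exact (‹P'.IsPrime›.mem_or_mem h1).resolve_left heP'

include he in
theorem exists_smul_sub_mem_span (heP' : e ∉ P')
    [Module.Finite R' (T ⧸ Ideal.span {1 - e})]
    (huniq : ∀ P'' : Ideal T, P''.IsPrime → P''.LiesOver P → e ∉ P'' → P'' = P')
    (H : ∀ t : T, ∃ a : R', t - algebraMap R' T a ∈ P')
    [Algebra.IsUnramifiedAt R' P'] :
    ∃ g ∉ P, ∀ t : T, ∃ a : R', g • t - algebraMap R' T a ∈ Ideal.span {1 - e} := by
  have h1e : 1 - e ∈ P' := one_sub_mem_of_notMem e he P' heP'
  have hker : RingHom.ker (Ideal.Quotient.mk (Ideal.span {1 - e})) ≤ P' := by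
    rw [Ideal.mk_ker, Ideal.span_le]
    intro x hx
    rw [Set.mem_singleton_iff.mp hx]
    exact h1e
  let r : Ideal (T ⧸ Ideal.span {1 - e}) := P'.map (Ideal.Quotient.mk (Ideal.span {1 - e}))
  haveI hrprime : r.IsPrime :=
    Ideal.map_isPrime_of_surjective Ideal.Quotient.mk_surjective hker
  have hrcomap : r.comap (Ideal.Quotient.mk (Ideal.span {1 - e})) = P' := by
    rw [Ideal.comap_map_of_surjective _ Ideal.Quotient.mk_surjective, ← RingHom.ker_eq_comap_bot]
    exact sup_eq_left.mpr hker
  haveI hrlies : r.LiesOver P := by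
    refine ⟨?_⟩
    rw [Ideal.under, P'.over_def P, Ideal.under, ← hrcomap, Ideal.comap_comap]
    rfl
  have hq : P.primesOver (T ⧸ Ideal.span {1 - e}) = {r} := by
    ext r'
    constructor
    · rintro ⟨hr'prime, hr'lies⟩
      rw [Set.mem_singleton_iff]
      have h2 : (r'.comap (Ideal.Quotient.mk (Ideal.span {1 - e}))).IsPrime :=
        Ideal.comap_isPrime _ _
      have h3 : (r'.comap (Ideal.Quotient.mk (Ideal.span {1 - e}))).LiesOver P := by
        refine ⟨?_⟩
        rw [Ideal.under, Ideal.comap_comap, r'.over_def P]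
        rfl
      have h4 : e ∉ r'.comap (Ideal.Quotient.mk (Ideal.span {1 - e})) := by
        intro h
        have h5 : (1 - e) ∈ r'.comap (Ideal.Quotient.mk (Ideal.span {1 - e})) := by
          rw [Ideal.mem_comap, Ideal.Quotient.eq_zero_iff_mem.mpr (Ideal.mem_span_singleton_self _)]
          exact r'.zero_mem
        have h6 := add_mem h h5
        rw [add_sub_cancel] at h6
        exact h2.ne_top ((Ideal.eq_top_iff_one _).mpr h6)
      have h7 := huniq _ h2 h3 h4
      rw [← Ideal.map_comap_of_surjective _ Ideal.Quotient.mk_surjective r', h7]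
    · intro h
      rw [Set.mem_singleton_iff.mp h]
      exact ⟨hrprime, hrlies⟩
  haveI : Algebra.IsUnramifiedAt R' r := by
    have hsurj : Function.Surjective (Localization.localAlgHom (R := R') P' r
        (Ideal.Quotient.mkₐ R' (Ideal.span {1 - e})) hrcomap.symm) :=
      (RingHom.surjectiveOnStalks_of_surjective
        (Ideal.Quotient.mk_surjective (I := Ideal.span {1 - e}))).localRingHom_surjective _ _
        hrcomap.symm
    exact Algebra.FormallyUnramified.of_surjective _ hsurj
  have H' : ∀ x : T ⧸ Ideal.span {1 - e}, ∃ a : R',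
      x - algebraMap R' (T ⧸ Ideal.span {1 - e}) a ∈ r := by
    intro x
    obtain ⟨t, rfl⟩ := Ideal.Quotient.mk_surjective x
    obtain ⟨a, ha⟩ := H t
    refine ⟨a, ?_⟩
    have : Ideal.Quotient.mk (Ideal.span {1 - e}) t -
        algebraMap R' (T ⧸ Ideal.span {1 - e}) a =
        Ideal.Quotient.mk (Ideal.span {1 - e}) (t - algebraMap R' T a) := by
      rw [map_sub]; rfl
    rw [this]
    exact Ideal.mem_map_of_mem _ ha
  obtain ⟨g, hgP, hg⟩ := exists_smul_mem_range_of_unramified hq H'
  refine ⟨g, hgP, fun t => ?_⟩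
  obtain ⟨a, ha⟩ := hg (Ideal.Quotient.mk _ t)
  refine ⟨a, ?_⟩
  rw [← Ideal.Quotient.eq_zero_iff_mem, map_sub, sub_eq_zero]
  exact ha

end K

end Groth.Agent.H5.ET
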