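import Mathlib
import Groth.Agent.Lib.Helper5.ET.E

set_option autoImplicit false

namespace Groth.Agent.H5.ET

open TensorProduct

universe u

section F

variable {R' T : Type*} [CommRing R'] [CommRing T] [Algebra R' T] (P : Ideal R') [P.IsPrime]
  (e : T) (he : IsIdempotentElem e) (P' : Ideal T) [P'.IsPrime] [P'.LiesOver P]
  (g : R')

/-- the base-changed idempotent -/
noncomputable abbrev ebc : Localization.Away g ⊗[R'] T := (1 : Localization.Away g) ⊗ₜ[R'] e

/-- the ideal generated by the complementary idempotent -/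
noncomputable abbrev Ibc : Ideal (Localization.Away g ⊗[R'] T) := Ideal.span {1 - ebc e g}

include he in
theorem ebc_idem : IsIdempotentElem (ebc e g) := by
  unfold ebc IsIdempotentElem
  rw [Algebra.TensorProduct.tmul_mul_tmul, mul_one, he.eq]

theorem algebraMap_surjective_of_smul
    (hg : ∀ t : T, ∃ a : R', g • t - algebraMap R' T a ∈ Ideal.span {1 - e}) :
    Function.Surjective (Algebra.ofId (Localization.Away g)
      ((Localization.Away g ⊗[R'] T) ⧸ Ibc e g)) := by
  intro x
  simp only [Algebra.ofId_apply]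
  obtain ⟨x, rfl⟩ := Ideal.Quotient.mk_surjective x
  induction x using TensorProduct.induction_on with
  | zero => exact ⟨0, by simp⟩
  | add x y hx hy =>
    obtain ⟨a, ha⟩ := hx
    obtain ⟨b, hb⟩ := hy
    exact ⟨a + b, by rw [map_add, ha, hb, map_add]⟩
  | tmul r t =>
    obtain ⟨a, ha⟩ := hg t
    obtain ⟨c, hc⟩ := Ideal.mem_span_singleton'.mp ha
    have hunit : IsUnit (algebraMap R' (Localization.Away g) g) :=
      IsLocalization.Away.algebraMap_isUnit g
    obtain ⟨v, hv⟩ := hunit.exists_left_inv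
    refine ⟨r * v * algebraMap R' (Localization.Away g) a, ?_⟩
    have h1 : ((1 : Localization.Away g) ⊗ₜ[R'] (g • t - algebraMap R' T a) :
        Localization.Away g ⊗[R'] T) ∈ Ibc e g := by
      unfold Ibc
      rw [← hc, Ideal.mem_span_singleton']
      refine ⟨(1 : Localization.Away g) ⊗ₜ[R'] c, ?_⟩
      unfold ebc
      rw [show (1 : Localization.Away g ⊗[R'] T) = (1 : Localization.Away g) ⊗ₜ[R'] (1 : T) from rfl,
        ← TensorProduct.tmul_sub, Algebra.TensorProduct.tmul_mul_tmul, mul_one]
    have h2 : ((1 : Localization.Away g) ⊗ₜ[R'] (g • t - algebraMap R' T a) :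
        Localization.Away g ⊗[R'] T) =
        ((algebraMap R' (Localization.Away g) g) ⊗ₜ[R'] (1 : T)) *
          ((1 : Localization.Away g) ⊗ₜ[R'] t) -
          ((algebraMap R' (Localization.Away g) a) ⊗ₜ[R'] (1 : T)) := by
      rw [TensorProduct.tmul_sub, TensorProduct.tmul_smul, TensorProduct.smul_tmul',
        Algebra.TensorProduct.tmul_mul_tmul, mul_one, one_mul,
        Algebra.algebraMap_eq_smul_one a, TensorProduct.tmul_smul, TensorProduct.smul_tmul',
        ← Algebra.algebraMap_eq_smul_one, ← Algebra.algebraMap_eq_smul_one]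
    rw [h2] at h1
    have h3 := Ideal.Quotient.eq.mpr h1
    have h4 : (r ⊗ₜ[R'] t : Localization.Away g ⊗[R'] T) =
        ((r * v) ⊗ₜ[R'] (1 : T)) * (((algebraMap R' (Localization.Away g) g) ⊗ₜ[R'] (1 : T)) *
          ((1 : Localization.Away g) ⊗ₜ[R'] t)) := by
      simp only [Algebra.TensorProduct.tmul_mul_tmul, one_mul, mul_one]
      rw [mul_assoc, hv, mul_one]
    rw [h4, map_mul (Ideal.Quotient.mk (Ibc e g)), h3, ← map_mul (Ideal.Quotient.mk (Ibc e g)),
      Algebra.TensorProduct.tmul_mul_tmul, mul_one]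
    rfl

end F

end Groth.Agent.H5.ET
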