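import Mathlib
import Groth.Agent.Lib.Helper5.ET.F

set_option autoImplicit false

namespace Groth.Agent.H5.ET

open TensorProduct

universe u

section G

variable {R' T : Type*} [CommRing R'] [CommRing T] [Algebra R' T] (P : Ideal R') [P.IsPrime]
  (e : T) (he : IsIdempotentElem e) (P' : Ideal T) [P'.IsPrime] [P'.LiesOver P]
  (g : R')

/-- the structure map to the quotient -/
noncomputable abbrev fbc : Localization.Away g →+* ((Localization.Away g ⊗[R'] T) ⧸ Ibc e g) :=
  (Ideal.Quotient.mk (Ibc e g)).comp (algebraMap (Localization.Away g) (Localization.Away g ⊗[R'] T))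

/-- the map from `T` to the quotient -/
noncomputable abbrev ψbc : T →+* ((Localization.Away g ⊗[R'] T) ⧸ Ibc e g) :=
  (Ideal.Quotient.mk (Ibc e g)).comp
    (Algebra.TensorProduct.includeRight : T →ₐ[R'] Localization.Away g ⊗[R'] T).toRingHom

include he in
theorem exists_prime_quotient (heP' : e ∉ P') (hgP : g ∉ P) :
    ∃ Q : Ideal ((Localization.Away g ⊗[R'] T) ⧸ Ibc e g), Q.IsPrime ∧
      Q.comap (fbc e g) = P.map (algebraMap R' (Localization.Away g)) ∧
      Q.comap (ψbc e g) = P' := by
  have hgP' : algebraMap R' T g ∉ P' := by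
    intro h
    apply hgP
    rw [P'.over_def P]
    exact h
  have hunit : IsUnit ((Algebra.ofId R' P'.ResidueField) g) := by
    rw [Algebra.ofId_apply, IsScalarTower.algebraMap_apply R' T P'.ResidueField, isUnit_iff_ne_zero,
      ne_eq, Ideal.algebraMap_residueField_eq_zero]
    exact hgP'
  let φR : Localization.Away g →ₐ[R'] P'.ResidueField := IsLocalization.Away.liftAlgHom g hunit
  let φT : T →ₐ[R'] P'.ResidueField := IsScalarTower.toAlgHom R' T P'.ResidueField
  let χ : Localization.Away g ⊗[R'] T →ₐ[R'] P'.ResidueField :=
    Algebra.TensorProduct.lift φR φT (fun _ _ => Commute.all _ _)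
  have hχe : χ (ebc e g) = 1 := by
    have h1 : χ (ebc e g) = algebraMap T P'.ResidueField e := by
      simp only [χ, ebc, Algebra.TensorProduct.lift_tmul, map_one, one_mul, φT,
        IsScalarTower.coe_toAlgHom']
    rw [h1]
    have h2 : algebraMap T P'.ResidueField e * algebraMap T P'.ResidueField e =
        algebraMap T P'.ResidueField e := by rw [← map_mul, he.eq]
    have h3 : algebraMap T P'.ResidueField e ≠ 0 := by
      rw [ne_eq, Ideal.algebraMap_residueField_eq_zero]
      exact heP'
    exact mul_left_cancel₀ h3 (h2.trans (mul_one _).symm)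
  have hI : ∀ x ∈ Ibc e g, χ.toRingHom x = 0 := by
    intro x hx
    obtain ⟨c, rfl⟩ := Ideal.mem_span_singleton'.mp hx
    change χ (c * (1 - ebc e g)) = 0
    rw [map_mul, map_sub, map_one, hχe, sub_self, mul_zero]
  let χbar : ((Localization.Away g ⊗[R'] T) ⧸ Ibc e g) →+* P'.ResidueField :=
    Ideal.Quotient.lift (Ibc e g) χ.toRingHom hI
  refine ⟨RingHom.ker χbar, RingHom.ker_isPrime χbar, ?_, ?_⟩
  · have h1 : (RingHom.ker χbar).comap (fbc e g) = RingHom.ker φR.toRingHom := by
      ext x
      simp only [Ideal.mem_comap, RingHom.mem_ker, fbc, RingHom.comp_apply, χbar,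
        Ideal.Quotient.lift_mk]
      have : χ.toRingHom (algebraMap (Localization.Away g) (Localization.Away g ⊗[R'] T) x) =
          φR x := by
        rw [Algebra.TensorProduct.algebraMap_apply]
        change χ ((algebraMap (Localization.Away g) (Localization.Away g) x) ⊗ₜ[R'] (1 : T)) = _
        simp only [χ, Algebra.TensorProduct.lift_tmul, map_one, mul_one, Algebra.algebraMap_self,
          RingHom.id_apply]
      rw [this]
      rfl
    rw [h1]
    have h2 : (RingHom.ker φR.toRingHom).comap (algebraMap R' (Localization.Away g)) = P := by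
      ext x
      simp only [Ideal.mem_comap, RingHom.mem_ker]
      have : φR.toRingHom (algebraMap R' (Localization.Away g) x) =
          algebraMap T P'.ResidueField (algebraMap R' T x) := by
        change φR (algebraMap R' (Localization.Away g) x) = _
        rw [AlgHom.commutes, IsScalarTower.algebraMap_apply R' T P'.ResidueField]
      rw [this, Ideal.algebraMap_residueField_eq_zero, P'.over_def P]
      rfl
    rw [← h2]
    exact (IsLocalization.map_comap (Submonoid.powers g) (Localization.Away g) _).symm
  · ext x
    simp only [Ideal.mem_comap, RingHom.mem_ker, ψbc, RingHom.comp_apply, χbar,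
      Ideal.Quotient.lift_mk]
    have : χ.toRingHom ((Algebra.TensorProduct.includeRight :
        T →ₐ[R'] Localization.Away g ⊗[R'] T).toRingHom x) = algebraMap T P'.ResidueField x := by
      change χ ((1 : Localization.Away g) ⊗ₜ[R'] x) = _
      simp only [χ, Algebra.TensorProduct.lift_tmul, map_one, one_mul, φT,
        IsScalarTower.coe_toAlgHom']
    rw [this, Ideal.algebraMap_residueField_eq_zero]

end G

end Groth.Agent.H5.ET
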