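import Mathlib
import Groth.Agent.Lib.Helper5.ET.G

set_option autoImplicit false

namespace Groth.Agent.H5.ET

open TensorProduct

universe u

section H

variable {R S : Type u} [CommRing R] [CommRing S] [Algebra R S] (q : Ideal S) [q.IsPrime]
  (R' : Type u) [CommRing R'] [Algebra R R'] [Algebra.Etale R R'] (P : Ideal R') [P.IsPrime]
  [P.LiesOver (q.under R)]
  (e : R' ⊗[R] S) (he : IsIdempotentElem e) (P' : Ideal (R' ⊗[R] S)) [P'.IsPrime] [P'.LiesOver P]

include he in
theorem core_of_data
    (hP'q : P'.comap (Algebra.TensorProduct.includeRight : S →ₐ[R] R' ⊗[R] S).toRingHom = q)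
    (heP' : e ∉ P') (g : R') (hgP : g ∉ P)
    (hg : ∀ t : R' ⊗[R] S, ∃ a : R', g • t - algebraMap R' (R' ⊗[R] S) a ∈ Ideal.span {1 - e}) :
    ∃ (R'' : Type u) (_ : CommRing R'') (_ : Algebra R R'') (_ : Algebra.Etale R R'')
      (p' : Ideal R'')
      (_ : p'.IsPrime) (_ : p'.LiesOver (q.under R)) (A : Type u) (_ : CommRing A)
      (_ : Algebra R'' A)
      (B : Type u) (_ : CommRing B) (_ : Algebra R'' B) (e : (R'' ⊗[R] S) ≃ₐ[R''] (A × B)),
      Function.Surjective (algebraMap R'' A) ∧ (p'.map (algebraMap R'' A)).IsPrime ∧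
        (p'.map (algebraMap R'' A)).comap (algebraMap R'' A) = p' ∧
        (p'.map (algebraMap R'' A)).comap (((RingHom.fst A B).comp e.toRingHom).comp
          (Algebra.TensorProduct.includeRight : S →ₐ[R] R'' ⊗[R] S).toRingHom) = q := by
  haveI hEt' : Algebra.Etale R' (Localization.Away g) := Algebra.Etale.of_isLocalizationAway g
  haveI hEt : Algebra.Etale R (Localization.Away g) := Algebra.Etale.comp R R' (Localization.Away g)
  let p'' : Ideal (Localization.Away g) := P.map (algebraMap R' (Localization.Away g))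
  have hdisj : Disjoint (Submonoid.powers g : Set R') (P : Set R') := by
    rwa [Ideal.disjoint_powers_iff_notMem_of_isPrime]
  haveI hp''prime : p''.IsPrime :=
    IsLocalization.isPrime_of_isPrime_disjoint (.powers g) _ _ ‹_› hdisj
  haveI hp''P : p''.LiesOver P :=
    IsLocalization.liesOver_map_of_isPrime_disjoint (.powers g) _ hdisj
  haveI hp''lies : p''.LiesOver (q.under R) := Ideal.LiesOver.trans p'' P (q.under R)
  have hidem := ebc_idem e he g
  let dec := AlgEquiv.prodQuotientOfIsIdempotentElem (Localization.Away g)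
    (S := Localization.Away g ⊗[R'] (R' ⊗[R] S)) (e := 1 - ebc e g) (f := ebc e g)
    hidem.one_sub hidem (sub_add_cancel _ _) (by rw [sub_mul, one_mul, hidem.eq, sub_self])
  let cb := Algebra.TensorProduct.cancelBaseChange R R' (Localization.Away g) (Localization.Away g) S
  obtain ⟨Q, hQprime, hQf0, hQψ⟩ := exists_prime_quotient P e he P' g heP' hgP
  have hQf : Q.comap (fbc e g) = p'' := hQf0
  have hsurj := algebraMap_surjective_of_smul e g hg
  have hfsurj : Function.Surjective (fbc e g) := hsurj
  have hker : RingHom.ker (fbc e g) ≤ p'' := by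
    rw [← hQf]
    intro x hx
    rw [Ideal.mem_comap, RingHom.mem_ker.mp hx]
    exact Q.zero_mem
  have hmapQ : p''.map (fbc e g) = Q := by
    rw [← hQf, Ideal.map_comap_of_surjective _ hfsurj]
  refine ⟨Localization.Away g, inferInstance, inferInstance, hEt, p'', hp''prime, hp''lies,
    (Localization.Away g ⊗[R'] (R' ⊗[R] S)) ⧸ Ibc e g, inferInstance, inferInstance,
    (Localization.Away g ⊗[R'] (R' ⊗[R] S)) ⧸ (Ideal.span {ebc e g} :
      Ideal (Localization.Away g ⊗[R'] (R' ⊗[R] S))), inferInstance, inferInstance,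
    cb.symm.trans dec, hsurj, ?_, ?_, ?_⟩
  · change (p''.map (fbc e g)).IsPrime
    rw [hmapQ]
    exact hQprime
  · change (p''.map (fbc e g)).comap (fbc e g) = p''
    rw [hmapQ, hQf]
  · change (p''.map (fbc e g)).comap _ = q
    rw [hmapQ, ← hP'q, ← hQψ, Ideal.comap_comap]
    congr 1

end H

end Groth.Agent.H5.ET
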