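import Mathlib

set_option autoImplicit false

namespace Groth.Agent.H5.ET

open TensorProduct

universe u

section J0

variable {R S : Type u} [CommRing R] [CommRing S] [Algebra R S] [Algebra.FiniteType R S]
  (q : Ideal S) [q.IsPrime] [Algebra.IsUnramifiedAt R q]

theorem quasiFiniteAt_of_isUnramifiedAt : Algebra.QuasiFiniteAt R q := by
  unfold Algebra.QuasiFiniteAt
  infer_instance

theorem exists_data₀ :
    ∃ (R₁ : Type u) (_ : CommRing R₁) (_ : Algebra R R₁) (_ : Algebra.Etale R R₁)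
      (q₁ : Ideal (R₁ ⊗[R] S)) (_ : q₁.IsPrime),
      q₁.comap (Algebra.TensorProduct.includeRight : S →ₐ[R] R₁ ⊗[R] S).toRingHom = q ∧
      Algebra.QuasiFiniteAt R₁ q₁ ∧
      (∀ s₁ : R₁ ⊗[R] S, ∃ a₁ : R₁, s₁ - algebraMap R₁ (R₁ ⊗[R] S) a₁ ∈ q₁) := by
  obtain ⟨f, hfq, Pr, φ, hφ⟩ :=
    Algebra.IsUnramifiedAt.exists_hasStandardEtaleSurjectionOn (R := R) q
  have hdisj : Disjoint (Submonoid.powers f : Set S) (q : Set S) := by
    rwa [Ideal.disjoint_powers_iff_notMem_of_isPrime]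
  let qf : Ideal (Localization.Away f) := q.map (algebraMap S (Localization.Away f))
  haveI hqfprime : qf.IsPrime :=
    IsLocalization.isPrime_of_isPrime_disjoint (.powers f) _ _ ‹_› hdisj
  have hqfcomap : qf.comap (algebraMap S (Localization.Away f)) = q :=
    IsLocalization.comap_map_of_isPrime_disjoint (.powers f) _ ‹_› hdisj
  let μ : Pr.Ring ⊗[R] S →ₐ[R] Localization.Away f :=
    Algebra.TensorProduct.lift φ (IsScalarTower.toAlgHom R S (Localization.Away f))
      (fun _ _ => Commute.all _ _)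
  let q₁ : Ideal (Pr.Ring ⊗[R] S) := qf.comap μ.toRingHom
  haveI : q₁.IsPrime := Ideal.comap_isPrime _ _
  have hq₁S : q₁.comap (Algebra.TensorProduct.includeRight : S →ₐ[R] Pr.Ring ⊗[R] S).toRingHom
      = q := by
    rw [← hqfcomap, Ideal.comap_comap]
    congr 1
    ext s
    simp only [μ, RingHom.comp_apply, AlgHom.toRingHom_eq_coe, RingHom.coe_coe,
      Algebra.TensorProduct.includeRight_apply, Algebra.TensorProduct.lift_tmul, map_one, one_mul,
      IsScalarTower.coe_toAlgHom']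
  refine ⟨Pr.Ring, inferInstance, inferInstance, inferInstance, q₁, inferInstance, hq₁S, ?_, ?_⟩
  · haveI := quasiFiniteAt_of_isUnramifiedAt (R := R) q
    exact Algebra.QuasiFiniteAt.baseChange q q₁ hq₁S.symm
  · intro s₁
    obtain ⟨a₁, ha₁⟩ := hφ (μ s₁)
    refine ⟨a₁, ?_⟩
    change μ.toRingHom (s₁ - algebraMap Pr.Ring (Pr.Ring ⊗[R] S) a₁) ∈ qf
    have : μ.toRingHom (s₁ - algebraMap Pr.Ring (Pr.Ring ⊗[R] S) a₁) = 0 := by
      change μ (s₁ - algebraMap Pr.Ring (Pr.Ring ⊗[R] S) a₁) = 0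
      rw [map_sub, Algebra.TensorProduct.algebraMap_apply, Algebra.algebraMap_self, RingHom.id_apply]
      simp only [μ, Algebra.TensorProduct.lift_tmul, map_one, mul_one]
      rw [ha₁]
      exact sub_self _
    rw [this]
    exact qf.zero_mem

end J0

end Groth.Agent.H5.ET
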