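import Mathlib
import Groth.Agent.Lib.Helper5.ET.I

set_option autoImplicit false

namespace Groth.Agent.H5.ET

open TensorProduct

universe u

section J1

variable {R S : Type u} [CommRing R] [CommRing S] [Algebra R S] [Algebra.FiniteType R S]
  (q : Ideal S) [q.IsPrime] [Algebra.IsUnramifiedAt R q]

theorem exists_data₁ :
    ∃ (R₁ : Type u) (_ : CommRing R₁) (_ : Algebra R R₁) (_ : Algebra.Etale R R₁)
      (R' : Type u) (_ : CommRing R') (_ : Algebra R₁ R') (_ : Algebra.Etale R₁ R')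
      (P : Ideal R') (_ : P.IsPrime)
      (e : R' ⊗[R₁] (R₁ ⊗[R] S)) (_ : IsIdempotentElem e)
      (P' : Ideal (R' ⊗[R₁] (R₁ ⊗[R] S))) (_ : P'.IsPrime) (_ : P'.LiesOver P),
      ((P'.comap (Algebra.TensorProduct.includeRight :
          (R₁ ⊗[R] S) →ₐ[R₁] R' ⊗[R₁] (R₁ ⊗[R] S)).toRingHom).comap
        (Algebra.TensorProduct.includeRight : S →ₐ[R] R₁ ⊗[R] S).toRingHom = q) ∧
      e ∉ P' ∧ Module.Finite R' (Localization.Away e) ∧
      (∀ P'' : Ideal (R' ⊗[R₁] (R₁ ⊗[R] S)), P''.IsPrime → P''.LiesOver P → e ∉ P'' → P'' = P') ∧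
      (∀ t : R' ⊗[R₁] (R₁ ⊗[R] S), ∃ a : R', t - algebraMap R' _ a ∈ P') := by
  obtain ⟨R₁, _, _, _, q₁, _, hq₁S, hqf, hres⟩ := exists_data₀ (R := R) q
  haveI : q₁.LiesOver (q₁.under R₁) := ⟨rfl⟩
  obtain ⟨R', _, _, _, P, _, _, e, he, P', _, _, hP'q₁, heP', -, hfin, huniq⟩ :=
    Algebra.exists_etale_isIdempotentElem_forall_liesOver_eq (q₁.under R₁) q₁
  refine ⟨R₁, inferInstance, inferInstance, inferInstance, R', inferInstance, inferInstance,
    inferInstance, P, inferInstance, e, he, P', inferInstance, inferInstance, ?_, heP', hfin,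
    huniq, ?_⟩
  · rw [hP'q₁, hq₁S]
  · intro t
    induction t using TensorProduct.induction_on with
    | zero => exact ⟨0, by simp⟩
    | add x y hx hy =>
      obtain ⟨a, ha⟩ := hx
      obtain ⟨b, hb⟩ := hy
      refine ⟨a + b, ?_⟩
      have : x + y - algebraMap R' _ (a + b) =
          (x - algebraMap R' _ a) + (y - algebraMap R' _ b) := by
        rw [map_add]; ring
      rw [this]
      exact add_mem ha hb
    | tmul r s₁ =>
      obtain ⟨a₁, ha₁⟩ := hres s₁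
      refine ⟨r * algebraMap R₁ R' a₁, ?_⟩
      have h1 : (r ⊗ₜ[R₁] s₁ : R' ⊗[R₁] (R₁ ⊗[R] S)) -
          algebraMap R' (R' ⊗[R₁] (R₁ ⊗[R] S)) (r * algebraMap R₁ R' a₁) =
          (r ⊗ₜ[R₁] (1 : R₁ ⊗[R] S)) * ((1 : R') ⊗ₜ[R₁] (s₁ - algebraMap R₁ (R₁ ⊗[R] S) a₁)) := by
        rw [Algebra.TensorProduct.tmul_mul_tmul, mul_one, one_mul, TensorProduct.tmul_sub,
          Algebra.TensorProduct.algebraMap_apply, Algebra.algebraMap_self, RingHom.id_apply,
          Algebra.algebraMap_eq_smul_one a₁, Algebra.algebraMap_eq_smul_one (A := R₁ ⊗[R] S) a₁,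
          TensorProduct.tmul_smul, TensorProduct.smul_tmul', mul_smul_comm, mul_one]
      rw [h1]
      apply Ideal.mul_mem_left
      have h2 : s₁ - algebraMap R₁ (R₁ ⊗[R] S) a₁ ∈ P'.comap
          (Algebra.TensorProduct.includeRight :
            (R₁ ⊗[R] S) →ₐ[R₁] R' ⊗[R₁] (R₁ ⊗[R] S)).toRingHom := by
        rw [hP'q₁]; exact ha₁
      exact h2

end J1

end Groth.Agent.H5.ET
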