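import Mathlib

set_option autoImplicit false

namespace Groth.Agent.H5.ET

open TensorProduct

universe u

section transport

variable {R' T T₀ : Type*} [CommRing R'] [CommRing T] [CommRing T₀] [Algebra R' T] [Algebra R' T₀]
  (ε : T ≃ₐ[R'] T₀) (P : Ideal R') (e : T) (P' : Ideal T) [P'.IsPrime] [P'.LiesOver P]

/-- the transported prime -/
noncomputable abbrev tprime : Ideal T₀ := P'.comap ε.symm.toAlgHom.toRingHom

instance : (tprime ε P').IsPrime := Ideal.comap_isPrime _ _

theorem tprime_liesOver : (tprime ε P').LiesOver P := by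
  refine ⟨?_⟩
  rw [P'.over_def P]
  ext x
  simp only [Ideal.under, Ideal.mem_comap, tprime, AlgHom.toRingHom_eq_coe, RingHom.coe_coe,
    AlgEquiv.coe_toAlgHom, AlgEquiv.commutes]

theorem mem_tprime_iff (t : T) : ε t ∈ tprime ε P' ↔ t ∈ P' := by
  simp only [tprime, Ideal.mem_comap, AlgHom.toRingHom_eq_coe, RingHom.coe_coe,
    AlgEquiv.coe_toAlgHom, AlgEquiv.symm_apply_apply]

theorem tprime_unique
    (huniq : ∀ P'' : Ideal T, P''.IsPrime → P''.LiesOver P → e ∉ P'' → P'' = P')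
    (P'' : Ideal T₀) (h1 : P''.IsPrime) (h2 : P''.LiesOver P) (h3 : ε e ∉ P'') :
    P'' = tprime ε P' := by
  have h4 : (P''.comap ε.toAlgHom.toRingHom).IsPrime := Ideal.comap_isPrime _ _
  have h5 : (P''.comap ε.toAlgHom.toRingHom).LiesOver P := by
    refine ⟨?_⟩
    rw [P''.over_def P]
    ext x
    simp only [Ideal.under, Ideal.mem_comap, AlgHom.toRingHom_eq_coe, RingHom.coe_coe,
      AlgEquiv.coe_toAlgHom, AlgEquiv.commutes]
  have h6 := huniq _ h4 h5 h3
  ext x
  rw [← h6]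
  simp only [tprime, Ideal.mem_comap, AlgHom.toRingHom_eq_coe, RingHom.coe_coe,
    AlgEquiv.coe_toAlgHom, AlgEquiv.apply_symm_apply]

theorem tprime_residue (H : ∀ t : T, ∃ a : R', t - algebraMap R' T a ∈ P') (t₀ : T₀) :
    ∃ a : R', t₀ - algebraMap R' T₀ a ∈ tprime ε P' := by
  obtain ⟨a, ha⟩ := H (ε.symm t₀)
  refine ⟨a, ?_⟩
  have : t₀ - algebraMap R' T₀ a = ε (ε.symm t₀ - algebraMap R' T a) := by
    rw [map_sub, AlgEquiv.apply_symm_apply, AlgEquiv.commutes]
  rw [this, mem_tprime_iff]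
  exact ha

theorem finite_quotient_of_finite_away (he : IsIdempotentElem e)
    [Module.Finite R' (Localization.Away e)] :
    Module.Finite R' (T₀ ⧸ (Ideal.span {1 - ε e} : Ideal T₀)) := by
  haveI := IsLocalization.Away.quotient_of_isIdempotentElem he
  let f1 : Localization.Away e ≃ₐ[T] (T ⧸ (Ideal.span {1 - e} : Ideal T)) :=
    IsLocalization.algEquiv (Submonoid.powers e) _ _
  haveI : Module.Finite R' (T ⧸ (Ideal.span {1 - e} : Ideal T)) :=
    Module.Finite.equiv (f1.restrictScalars R').toLinearEquiv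
  have hIJ : (Ideal.span {1 - ε e} : Ideal T₀) = (Ideal.span {1 - e} : Ideal T).map ε := by
    rw [Ideal.map_span, Set.image_singleton, map_sub, map_one]
  let f2 : (T ⧸ (Ideal.span {1 - e} : Ideal T)) ≃ₐ[R'] (T₀ ⧸ (Ideal.span {1 - ε e} : Ideal T₀)) :=
    Ideal.quotientEquivAlg _ _ ε hIJ
  exact Module.Finite.equiv f2.toLinearEquiv

end transport

end Groth.Agent.H5.ET
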