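import Mathlib
import Groth.Agent.Lib.Helper5.ET.D
import Groth.Agent.Lib.Helper5.ET.H
import Groth.Agent.Lib.Helper5.ET.J
import Groth.Agent.Lib.Helper5.ET.K

set_option autoImplicit false

namespace Groth.Agent.H5.ET

open TensorProduct

universe u

section J2

variable {R S : Type u} [CommRing R] [CommRing S] [Algebra R S] [Algebra.FiniteType R S]
  (q : Ideal S) [q.IsPrime] [Algebra.IsUnramifiedAt R q]

theorem exists_data :
    ∃ (R' : Type u) (_ : CommRing R') (_ : Algebra R R') (_ : Algebra.Etale R R') (P : Ideal R')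
      (_ : P.IsPrime) (_ : P.LiesOver (q.under R)) (e : R' ⊗[R] S) (_ : IsIdempotentElem e)
      (P' : Ideal (R' ⊗[R] S)) (_ : P'.IsPrime) (_ : P'.LiesOver P),
      P'.comap (Algebra.TensorProduct.includeRight : S →ₐ[R] R' ⊗[R] S).toRingHom = q ∧ e ∉ P' ∧
      Module.Finite R' ((R' ⊗[R] S) ⧸ (Ideal.span {1 - e} : Ideal (R' ⊗[R] S))) ∧
      (∀ P'' : Ideal (R' ⊗[R] S), P''.IsPrime → P''.LiesOver P → e ∉ P'' → P'' = P') ∧
      (∀ t : R' ⊗[R] S, ∃ a : R', t - algebraMap R' (R' ⊗[R] S) a ∈ P') := by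
  obtain ⟨R₁, _, _, _, R', _, _, _, P, _, e, he, P', _, _, hP'q, heP', hfin, huniq, hres⟩ :=
    exists_data₁ (R := R) q
  letI : Algebra R R' := Algebra.compHom R' (algebraMap R R₁)
  haveI : IsScalarTower R R₁ R' := IsScalarTower.of_algebraMap_eq' rfl
  haveI : Algebra.Etale R R' := Algebra.Etale.comp R R₁ R'
  let ε := Algebra.TensorProduct.cancelBaseChange R R₁ R' R' S
  haveI hlies : (tprime ε P').LiesOver P := tprime_liesOver ε P P'
  have hcomap : (tprime ε P').comap
      (Algebra.TensorProduct.includeRight : S →ₐ[R] R' ⊗[R] S).toRingHom = q := by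
    rw [← hP'q]
    ext s
    simp only [tprime, Ideal.mem_comap, AlgHom.toRingHom_eq_coe, RingHom.coe_coe,
      AlgEquiv.coe_toAlgHom, Algebra.TensorProduct.includeRight_apply, ε,
      Algebra.TensorProduct.cancelBaseChange_symm_tmul]
  have key : ∀ x : R, ((1 : R') ⊗ₜ[R] (algebraMap R S x) : R' ⊗[R] S) =
      algebraMap R' (R' ⊗[R] S) (algebraMap R R' x) := by
    intro x
    rw [Algebra.TensorProduct.algebraMap_apply, Algebra.algebraMap_self, RingHom.id_apply,
      Algebra.algebraMap_eq_smul_one (A := S) x, Algebra.algebraMap_eq_smul_one (A := R') x,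
      TensorProduct.smul_tmul]
  haveI : P.LiesOver (q.under R) := by
    refine ⟨?_⟩
    rw [(tprime ε P').over_def P, ← hcomap]
    ext x
    simp only [Ideal.under, Ideal.mem_comap, AlgHom.toRingHom_eq_coe, RingHom.coe_coe,
      Algebra.TensorProduct.includeRight_apply]
    rw [key]
  refine ⟨R', inferInstance, inferInstance, inferInstance, P, inferInstance, inferInstance,
    ε e, he.map ε, tprime ε P', inferInstance, hlies, hcomap, ?_, ?_, ?_, ?_⟩
  · rw [mem_tprime_iff]; exact heP'
  · exact finite_quotient_of_finite_away ε e he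
  · exact tprime_unique ε P e P' huniq
  · exact tprime_residue ε P' hres

end J2

section core

variable {R S : Type u} [CommRing R] [CommRing S] [Algebra R S] [Algebra.FiniteType R S]
  (q : Ideal S) [q.IsPrime] [Algebra.IsUnramifiedAt R q]

theorem core :
    ∃ (R' : Type u) (_ : CommRing R') (_ : Algebra R R') (_ : Algebra.Etale R R') (p' : Ideal R')
      (_ : p'.IsPrime) (_ : p'.LiesOver (q.under R)) (A : Type u) (_ : CommRing A) (_ : Algebra R' A)
      (B : Type u) (_ : CommRing B) (_ : Algebra R' B) (e : (R' ⊗[R] S) ≃ₐ[R'] (A × B)),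
      Function.Surjective (algebraMap R' A) ∧ (p'.map (algebraMap R' A)).IsPrime ∧
        (p'.map (algebraMap R' A)).comap (algebraMap R' A) = p' ∧
        (p'.map (algebraMap R' A)).comap (((RingHom.fst A B).comp e.toRingHom).comp
          (Algebra.TensorProduct.includeRight : S →ₐ[R] R' ⊗[R] S).toRingHom) = q := by
  obtain ⟨R', _, _, _, P, _, _, e, he, P', _, _, hP'q, heP', hfin, huniq, hres⟩ :=
    exists_data (R := R) q
  haveI : Algebra.IsUnramifiedAt R' P' := isUnramifiedAt_baseChange q P' hP'q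
  obtain ⟨g, hgP, hg⟩ := exists_smul_sub_mem_span P e he P' heP' huniq hres
  exact core_of_data q R' P e he P' hP'q heP' g hgP hg

end core

end Groth.Agent.H5.ET
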