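import Mathlib

set_option autoImplicit false

namespace Groth.Agent.H5.ET

open TensorProduct

universe u

section DIM

variable {R S : Type u} [CommRing R] [CommRing S] [Algebra R S] (p : Ideal R) [p.IsPrime]
  {R₁ : Type u} [CommRing R₁] [Algebra R R₁] (p₁ : Ideal R₁) [p₁.IsPrime] [p₁.LiesOver p]

/-- the residue field extension as an algebra -/
noncomputable abbrev resAlg : Algebra p.ResidueField p₁.ResidueField :=
  (Ideal.ResidueField.mapₐ p p₁ (Algebra.ofId R R₁) (p₁.over_def p)).toRingHom.toAlgebra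

theorem resAlg_tower :
    letI := resAlg p p₁
    IsScalarTower R p.ResidueField p₁.ResidueField := by
  letI := resAlg p p₁
  exact IsScalarTower.of_algebraMap_eq
    (fun r => ((Ideal.ResidueField.mapₐ p p₁ (Algebra.ofId R R₁) (p₁.over_def p)).commutes r).symm)

theorem finite_fiber_baseChange [Module.Finite p.ResidueField (p.Fiber S)] :
    Module.Finite p₁.ResidueField (p₁.Fiber (R₁ ⊗[R] S)) := by
  letI := resAlg p p₁
  haveI := resAlg_tower p p₁
  let e_a := Algebra.TensorProduct.cancelBaseChange R R₁ p₁.ResidueField p₁.ResidueField S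
  let e_b := Algebra.TensorProduct.cancelBaseChange R p.ResidueField p₁.ResidueField
    p₁.ResidueField S
  haveI : Module.Finite p₁.ResidueField (p₁.ResidueField ⊗[p.ResidueField] (p.Fiber S)) :=
    Module.Finite.base_change _ _ _
  exact Module.Finite.equiv (e_b.toLinearEquiv.trans e_a.symm.toLinearEquiv)

theorem finrank_fiber_baseChange :
    Module.finrank p₁.ResidueField (p₁.Fiber (R₁ ⊗[R] S)) =
      Module.finrank p.ResidueField (p.Fiber S) := by
  letI := resAlg p p₁
  haveI := resAlg_tower p p₁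
  let e_a := Algebra.TensorProduct.cancelBaseChange R R₁ p₁.ResidueField p₁.ResidueField S
  let e_b := Algebra.TensorProduct.cancelBaseChange R p.ResidueField p₁.ResidueField
    p₁.ResidueField S
  rw [e_a.toLinearEquiv.finrank_eq, ← e_b.toLinearEquiv.finrank_eq]
  exact Module.finrank_baseChange

variable {A B₁ : Type u} [CommRing A] [CommRing B₁] [Algebra R₁ A] [Algebra R₁ B₁]
  (e₁ : R₁ ⊗[R] S ≃ₐ[R₁] A × B₁)

include e₁ in
theorem finite_fiber_snd [Module.Finite p.ResidueField (p.Fiber S)] :
    Module.Finite p₁.ResidueField (p₁.Fiber B₁) := by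
  haveI := finite_fiber_baseChange (S := S) p p₁
  let e_c : p₁.Fiber (R₁ ⊗[R] S) ≃ₐ[p₁.ResidueField] p₁.Fiber (A × B₁) :=
    Algebra.TensorProduct.congr AlgEquiv.refl e₁
  let e_d := Algebra.TensorProduct.prodRight R₁ p₁.ResidueField p₁.ResidueField A B₁
  haveI : Module.Finite p₁.ResidueField (p₁.Fiber A × p₁.Fiber B₁) :=
    Module.Finite.equiv (e_c.toLinearEquiv.trans e_d.toLinearEquiv)
  exact Module.Finite.of_surjective
    (LinearMap.snd p₁.ResidueField (p₁.Fiber A) (p₁.Fiber B₁)) LinearMap.snd_surjective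

include e₁ in
theorem finrank_fiber_snd_lt [Module.Finite p.ResidueField (p.Fiber S)]
    [Nontrivial (p₁.Fiber A)] :
    Module.finrank p₁.ResidueField (p₁.Fiber B₁) <
      Module.finrank p.ResidueField (p.Fiber S) := by
  haveI := finite_fiber_baseChange (S := S) p p₁
  let e_c : p₁.Fiber (R₁ ⊗[R] S) ≃ₐ[p₁.ResidueField] p₁.Fiber (A × B₁) :=
    Algebra.TensorProduct.congr AlgEquiv.refl e₁
  let e_d := Algebra.TensorProduct.prodRight R₁ p₁.ResidueField p₁.ResidueField A B₁
  haveI : Module.Finite p₁.ResidueField (p₁.Fiber A × p₁.Fiber B₁) :=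
    Module.Finite.equiv (e_c.toLinearEquiv.trans e_d.toLinearEquiv)
  haveI : Module.Finite p₁.ResidueField (p₁.Fiber B₁) := Module.Finite.of_surjective
    (LinearMap.snd p₁.ResidueField (p₁.Fiber A) (p₁.Fiber B₁)) LinearMap.snd_surjective
  haveI : Module.Finite p₁.ResidueField (p₁.Fiber A) := Module.Finite.of_surjective
    (LinearMap.fst p₁.ResidueField (p₁.Fiber A) (p₁.Fiber B₁)) LinearMap.fst_surjective
  have h1 : Module.finrank p₁.ResidueField (p₁.Fiber A × p₁.Fiber B₁) =
      Module.finrank p.ResidueField (p.Fiber S) := by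
    rw [← finrank_fiber_baseChange (S := S) p p₁]
    exact (e_c.toLinearEquiv.trans e_d.toLinearEquiv).finrank_eq.symm
  rw [Module.finrank_prod] at h1
  have h2 : 0 < Module.finrank p₁.ResidueField (p₁.Fiber A) := Module.finrank_pos
  omega

end DIM

end Groth.Agent.H5.ET
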