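import Mathlib

set_option autoImplicit false

namespace Groth.Agent.H5.ET

open TensorProduct

universe u

section equivs

variable (R : Type*) [CommRing R]

/-- associativity of binary products of algebras -/
def prodAssocAlg (X Y Z : Type*) [CommRing X] [CommRing Y] [CommRing Z]
    [Algebra R X] [Algebra R Y] [Algebra R Z] : ((X × Y) × Z) ≃ₐ[R] (X × (Y × Z)) where
  toEquiv := Equiv.prodAssoc X Y Z
  map_mul' _ _ := rfl
  map_add' _ _ := rfl
  commutes' _ := rfl

/-- products of quotients indexed by `Fin (n+1)` -/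
def consAlgEquiv {n : ℕ} (J₀ : Ideal R) (J : Fin n → Ideal R) :
    ((R ⧸ J₀) × (∀ i : Fin n, R ⧸ J i)) ≃ₐ[R]
      (∀ i : Fin (n + 1), R ⧸ (Fin.cons J₀ J : Fin (n + 1) → Ideal R) i) where
  toFun x := Fin.cons (α := fun i => R ⧸ (Fin.cons J₀ J : Fin (n + 1) → Ideal R) i) x.1 x.2
  invFun f := (f 0, fun i => f i.succ)
  left_inv x := rfl
  right_inv f := by
    funext i
    refine Fin.cases ?_ ?_ i
    · rfl
    · intro j; rfl
  map_mul' x y := by
    funext i
    refine Fin.cases ?_ ?_ i
    · rfl
    · intro j; rfl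
  map_add' x y := by
    funext i
    refine Fin.cases ?_ ?_ i
    · rfl
    · intro j; rfl
  commutes' r := by
    funext i
    refine Fin.cases ?_ ?_ i
    · rfl
    · intro j; rfl

end equivs

end Groth.Agent.H5.ET
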