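import Mathlib
import Groth.Agent.Lib.Helper5.ET.L
import Groth.Agent.Lib.Helper5.ET.M
import Groth.Agent.Lib.Helper5.ET.N

set_option autoImplicit false

namespace Groth.Agent.H5.ET

open TensorProduct

universe u

theorem exists_decomp (d : ℕ) : ∀ (R S : Type u) [CommRing R] [CommRing S] [Algebra R S]
    [Algebra.Unramified R S] (p : Ideal R) [p.IsPrime],
    Module.finrank p.ResidueField (p.Fiber S) = d →
    ∃ (R' : Type u) (_ : CommRing R') (_ : Algebra R R') (_ : Algebra.Etale R R') (p' : Ideal R')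
      (_ : p'.IsPrime) (_ : p'.LiesOver p) (n : ℕ) (I : Fin n → Ideal R') (B : Type u)
      (_ : CommRing B) (_ : Algebra R' B),
      (∀ i, I i ≤ p') ∧ Nonempty ((R' ⊗[R] S) ≃ₐ[R'] ((∀ i, R' ⧸ I i) × B)) ∧
      ∀ (q : Ideal B) [q.IsPrime], q.comap (algebraMap R' B) ≠ p' := by
  induction d using Nat.strong_induction_on with
  | _ d IH =>
  intro R S _ _ _ _ p _ hd
  haveI : Algebra.QuasiFinite R S := inferInstance
  haveI hfin : Module.Finite p.ResidueField (p.Fiber S) := Algebra.QuasiFinite.finite_fiber p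
  by_cases h : ∃ q : Ideal S, q.IsPrime ∧ q.comap (algebraMap R S) = p
  · obtain ⟨q, hqprime, hqp⟩ := h
    haveI := hqprime
    haveI : Algebra.IsUnramifiedAt R q := inferInstance
    obtain ⟨R₁, _, _, _, p₁, _, hp₁lies, A, _, _, B₁, _, _, e₁, hsurj, hprime, hcomap, -⟩ :=
      core (R := R) q
    haveI hp₁p : p₁.LiesOver p := by
      have : q.under R = p := hqp
      rw [← this]
      exact hp₁lies
    -- the kernel ideal
    let I₀ : Ideal R₁ := RingHom.ker (Algebra.ofId R₁ A)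
    have hI₀ : I₀ ≤ p₁ := by
      intro x hx
      rw [← hcomap, Ideal.mem_comap]
      have : algebraMap R₁ A x = 0 := hx
      rw [this]
      exact Ideal.zero_mem _
    let fA : A ≃ₐ[R₁] R₁ ⧸ I₀ :=
      (Ideal.quotientKerAlgEquivOfSurjective (f := Algebra.ofId R₁ A) hsurj).symm
    haveI hnt : Nontrivial (p₁.Fiber A) := by
      rw [← PrimeSpectrum.nonempty_iff_nontrivial]
      exact ⟨PrimeSpectrum.primesOverOrderIsoFiber R₁ A p₁
        ⟨p₁.map (algebraMap R₁ A), hprime, ⟨hcomap.symm⟩⟩⟩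
    -- `B₁` is unramified over `R₁`
    let π₂ : R₁ ⊗[R] S →ₐ[R₁] B₁ := (AlgHom.snd R₁ A B₁).comp e₁.toAlgHom
    have hπ₂ : Function.Surjective π₂ := by
      intro b
      refine ⟨e₁.symm (0, b), ?_⟩
      simp [π₂]
    haveI : Algebra.Unramified R₁ B₁ :=
      { formallyUnramified := Algebra.FormallyUnramified.of_surjective π₂ hπ₂
        finiteType := Algebra.FiniteType.of_surjective π₂ hπ₂ }
    have hlt := finrank_fiber_snd_lt (S := S) p p₁ e₁
    rw [hd] at hlt
    obtain ⟨R₂, _, _, _, p₂, _, hp₂lies, n, I, B, _, _, hI, ⟨iso₂⟩, hB⟩ :=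
      IH _ hlt R₁ B₁ p₁ rfl
    letI : Algebra R R₂ := Algebra.compHom R₂ (algebraMap R R₁)
    haveI : IsScalarTower R R₁ R₂ := IsScalarTower.of_algebraMap_eq' rfl
    haveI : Algebra.Etale R R₂ := Algebra.Etale.comp R R₁ R₂
    haveI : p₂.LiesOver p := Ideal.LiesOver.trans p₂ p₁ p
    let I₀' : Ideal R₂ := I₀.map (algebraMap R₁ R₂)
    have hI₀' : I₀' ≤ p₂ := by
      rw [Ideal.map_le_iff_le_comap]
      have : p₂.comap (algebraMap R₁ R₂) = p₁ := (p₂.over_def p₁).symm
      rw [this]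
      exact hI₀
    let c1 := (Algebra.TensorProduct.cancelBaseChange R R₁ R₂ R₂ S).symm
    let c2 : R₂ ⊗[R₁] (R₁ ⊗[R] S) ≃ₐ[R₂] R₂ ⊗[R₁] (A × B₁) :=
      Algebra.TensorProduct.congr AlgEquiv.refl e₁
    let c3 := Algebra.TensorProduct.prodRight R₁ R₂ R₂ A B₁
    let c4 : R₂ ⊗[R₁] A ≃ₐ[R₂] R₂ ⧸ I₀' :=
      (Algebra.TensorProduct.congr AlgEquiv.refl fA).trans
        (Algebra.TensorProduct.quotIdealMapEquivTensorQuot R₂ I₀).symm
    let c5 := AlgEquiv.prodCongr c4 iso₂
    let c6 := (prodAssocAlg R₂ (R₂ ⧸ I₀') (∀ i, R₂ ⧸ I i) B).symm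
    let c7 := AlgEquiv.prodCongr (consAlgEquiv R₂ I₀' I) (AlgEquiv.refl (R := R₂) (A₁ := B))
    refine ⟨R₂, inferInstance, inferInstance, inferInstance, p₂, inferInstance, inferInstance,
      n + 1, Fin.cons I₀' I, B, inferInstance, inferInstance, ?_,
      ⟨(((((c1.trans c2).trans c3).trans c5).trans c6).trans c7)⟩, hB⟩
    intro i
    refine Fin.cases ?_ ?_ i
    · exact hI₀'
    · intro j
      exact hI j
  · -- no prime over `p`
    refine ⟨R, inferInstance, inferInstance, inferInstance, p, inferInstance, ⟨?_⟩, 0,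
      fun i => i.elim0, S, inferInstance, inferInstance, fun i => i.elim0, ⟨?_⟩, ?_⟩
    · rw [Ideal.under, Algebra.algebraMap_self]
      exact (Ideal.comap_id p).symm
    · exact (Algebra.TensorProduct.lid R S).trans
        (AlgEquiv.uniqueProd : ((∀ i : Fin 0, R ⧸ (fun i : Fin 0 => i.elim0 : Fin 0 → Ideal R) i)
          × S) ≃ₐ[R] S).symm
    · intro q hq hqp
      exact h ⟨q, hq, hqp⟩

end Groth.Agent.H5.ET
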