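import Mathlib
import Groth.Agent.Lib.Helper5.ET.O

set_option autoImplicit false

namespace Groth.Agent.H5.ET

open TensorProduct

universe u

theorem unramified_decomp (R : Type u) [CommRing R]
    (S : Type u) [CommRing S] [Algebra R S] [Algebra.Unramified R S] (p : Ideal R) [p.IsPrime] :
    ∃ (R' : Type u) (_ : CommRing R') (_ : Algebra R R') (_ : Algebra.Etale R R') (p' : Ideal R')
      (_ : p'.IsPrime) (_ : p'.LiesOver p) (n : ℕ) (A : Fin n → Type u) (_ : ∀ i, CommRing (A i))
      (_ : ∀ i, Algebra R' (A i)) (B : Type u) (_ : CommRing B) (_ : Algebra R' B),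
      Nonempty ((R' ⊗[R] S) ≃ₐ[R'] ((∀ i, A i) × B)) ∧
        (∀ i, Function.Surjective (algebraMap R' (A i)) ∧
          (p'.map (algebraMap R' (A i))).IsPrime ∧
          (p'.map (algebraMap R' (A i))).comap (algebraMap R' (A i)) = p') ∧
        ∀ (q : Ideal B) [q.IsPrime], q.comap (algebraMap R' B) ≠ p' := by
  obtain ⟨R', _, _, _, p', _, _, n, I, B, _, _, hI, hiso, hB⟩ :=
    exists_decomp _ R S p rfl
  refine ⟨R', inferInstance, inferInstance, inferInstance, p', inferInstance, inferInstance, n,
    fun i => R' ⧸ I i, fun i => inferInstance, fun i => inferInstance, B, inferInstance,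
    inferInstance, hiso, ?_, hB⟩
  intro i
  have hker : RingHom.ker (Ideal.Quotient.mk (I i)) ≤ p' := by
    rw [Ideal.mk_ker]; exact hI i
  refine ⟨Ideal.Quotient.mk_surjective, ?_, ?_⟩
  · exact Ideal.map_isPrime_of_surjective (f := Ideal.Quotient.mk (I i))
      Ideal.Quotient.mk_surjective hker
  · change (p'.map (Ideal.Quotient.mk (I i))).comap (Ideal.Quotient.mk (I i)) = p'
    rw [Ideal.comap_map_of_surjective _ Ideal.Quotient.mk_surjective, ← RingHom.ker_eq_comap_bot]
    exact sup_eq_left.mpr hker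

end Groth.Agent.H5.ET
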