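import Mathlib

set_option autoImplicit false

namespace Groth.Agent.H5.ET

open TensorProduct

universe u

section FIN

variable (R : Type*) {S : Type*} [CommRing R] [CommRing S] [Algebra R S] (p : Ideal R) [p.IsPrime]

/-- the set of primes over `p` at which `S` is quasi-finite -/
def QFset : Set (Ideal S) := {q | ∃ (_ : q.IsPrime), q.LiesOver p ∧ Algebra.QuasiFiniteAt R q}

variable {R}

theorem finite_QFset [Algebra.FiniteType R S] : (QFset R (S := S) p).Finite := by
  let D : Set (PrimeSpectrum S) :=
    {x | x.asIdeal.LiesOver p ∧ Algebra.QuasiFiniteAt R x.asIdeal}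
  let X : Set (PrimeSpectrum S) := PrimeSpectrum.comap (algebraMap R S) ⁻¹' {⟨p, inferInstance⟩}
  have hDX : D ⊆ X := by
    intro x hx
    exact PrimeSpectrum.ext (hx.1.over).symm
  haveI : IsNoetherianRing (p.Fiber S) :=
    Algebra.FiniteType.isNoetherianRing p.ResidueField (p.Fiber S)
  haveI : TopologicalSpace.NoetherianSpace X :=
    (TopologicalSpace.noetherianSpace_iff_of_homeomorph
      (PrimeSpectrum.preimageHomeomorphFiber R S ⟨p, inferInstance⟩)).mpr inferInstance
  have hcomp : IsCompact D :=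
    (TopologicalSpace.noetherianSpace_set_iff X).mp inferInstance D hDX
  have hdisc : IsDiscrete D := by
    rw [isDiscrete_iff_forall_mem_exists_isOpen]
    intro y hy
    haveI := hy.1
    haveI := hy.2
    obtain ⟨s, hsy, hs⟩ := Ideal.exists_not_mem_forall_mem_of_ne_of_liesOver p y.asIdeal
    refine ⟨PrimeSpectrum.basicOpen s, (PrimeSpectrum.basicOpen s).isOpen, ?_⟩
    ext z
    simp only [Set.mem_inter_iff, SetLike.mem_coe, PrimeSpectrum.mem_basicOpen,
      Set.mem_singleton_iff]
    constructor
    · rintro ⟨hsz, hzD⟩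
      by_contra hne
      apply hsz
      exact hs z.asIdeal z.2 (fun h => hne (PrimeSpectrum.ext h)) hzD.1
    · rintro rfl
      exact ⟨hsy, hy⟩
  have hfin : D.Finite := hcomp.finite hdisc
  refine (hfin.image PrimeSpectrum.asIdeal).subset ?_
  rintro q ⟨hqprime, hqlies, hqf⟩
  exact ⟨⟨q, hqprime⟩, ⟨hqlies, hqf⟩, rfl⟩

end FIN

end Groth.Agent.H5.ET
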