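import Mathlib

set_option autoImplicit false

namespace Groth.Agent.H5.ET

open TensorProduct

universe u

section QFQ

variable {R₁ T : Type*} [CommRing R₁] [CommRing T] [Algebra R₁ T] (e : T)
  (he : IsIdempotentElem e)

include he in
/-- Quasi-finiteness at a prime of the quotient by an idempotent lifts. -/
theorem quasiFiniteAt_comap_mk_of_idempotent
    (Qb : Ideal (T ⧸ (Ideal.span {e} : Ideal T))) [Qb.IsPrime] [Algebra.QuasiFiniteAt R₁ Qb] :
    Algebra.QuasiFiniteAt R₁ (Qb.comap (Ideal.Quotient.mk (Ideal.span {e} : Ideal T))) := by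
  set Q : Ideal T := Qb.comap (Ideal.Quotient.mk (Ideal.span {e} : Ideal T)) with hQ
  have heQ : e ∈ Q := by
    rw [hQ, Ideal.mem_comap, Ideal.Quotient.eq_zero_iff_mem.mpr (Ideal.mem_span_singleton_self e)]
    exact Qb.zero_mem
  have h1eQ : 1 - e ∉ Q := by
    intro h
    have := add_mem heQ h
    rw [add_sub_cancel] at this
    exact (inferInstance : Q.IsPrime).ne_top ((Ideal.eq_top_iff_one _).mpr this)
  have hezero : algebraMap T (Localization.AtPrime Q) e = 0 := by
    have hu : IsUnit (algebraMap T (Localization.AtPrime Q) (1 - e)) :=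
      IsLocalization.map_units (M := Q.primeCompl) _ ⟨1 - e, h1eQ⟩
    have h0 : algebraMap T (Localization.AtPrime Q) e *
        algebraMap T (Localization.AtPrime Q) (1 - e) = 0 := by
      rw [← map_mul, mul_sub, mul_one, he.eq, sub_self, map_zero]
    exact (hu.mul_left_eq_zero).mp h0
  let g₀ : (T ⧸ (Ideal.span {e} : Ideal T)) →ₐ[R₁] Localization.AtPrime Q :=
    Ideal.Quotient.liftₐ (Ideal.span {e}) (IsScalarTower.toAlgHom R₁ T (Localization.AtPrime Q))
      (by
        intro a ha
        obtain ⟨c, rfl⟩ := Ideal.mem_span_singleton'.mp ha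
        change algebraMap T (Localization.AtPrime Q) (c * e) = 0
        rw [map_mul, hezero, mul_zero])
  have hg₀ : ∀ t : T, g₀ (Ideal.Quotient.mk _ t) = algebraMap T (Localization.AtPrime Q) t :=
    fun t => rfl
  have hunits : ∀ y : Qb.primeCompl, IsUnit (g₀ y) := by
    rintro ⟨y, hy⟩
    obtain ⟨t, rfl⟩ := Ideal.Quotient.mk_surjective y
    rw [hg₀]
    exact IsLocalization.map_units (M := Q.primeCompl) _ ⟨t, hy⟩
  let g : Localization.AtPrime Qb →ₐ[R₁] Localization.AtPrime Q :=
    IsLocalization.liftAlgHom (M := Qb.primeCompl) (f := g₀) hunits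
  have hsurj : Function.Surjective g := by
    intro x
    obtain ⟨t, s, rfl⟩ := IsLocalization.exists_mk'_eq Q.primeCompl x
    have hs : Ideal.Quotient.mk (Ideal.span {e} : Ideal T) s.1 ∈ Qb.primeCompl := s.2
    refine ⟨IsLocalization.mk' _ (Ideal.Quotient.mk _ t) ⟨_, hs⟩, ?_⟩
    simp only [g, IsLocalization.coe_liftAlgHom, IsLocalization.lift_mk'_spec]
    change algebraMap T (Localization.AtPrime Q) t =
      algebraMap T (Localization.AtPrime Q) s.1 * IsLocalization.mk' (Localization.AtPrime Q) t s
    exact (IsLocalization.mk'_spec' _ t s).symm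
  exact Algebra.QuasiFinite.of_surjective_algHom g hsurj

end QFQ

end Groth.Agent.H5.ET
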