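import Mathlib

set_option autoImplicit false

namespace Groth.Agent.H5.ET

open TensorProduct

universe u

section DESC

variable {R R₁ S : Type*} [CommRing R] [CommRing R₁] [CommRing S] [Algebra R R₁] [Algebra R S]
    {p : Ideal R} {P₁ : Ideal R₁} [p.IsPrime] [P₁.IsPrime] [P₁.LiesOver p]

theorem quasiFiniteAt_descent [Algebra.FiniteType R S]
    (H : Function.Bijective (Ideal.ResidueField.mapₐ p P₁ (Algebra.ofId _ _) (P₁.over_def p)))
    (Q : Ideal (R₁ ⊗[R] S)) [Q.IsPrime] [Q.LiesOver P₁] [Algebra.QuasiFiniteAt R₁ Q]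
    (q : Ideal S) [q.IsPrime] [q.LiesOver p]
    (hq : Q.comap (Algebra.TensorProduct.includeRight : S →ₐ[R] R₁ ⊗[R] S).toRingHom = q) :
    Algebra.QuasiFiniteAt R q := by
  letI := Localization.AtPrime.algebraOfLiesOver p P₁
  let e : P₁.Fiber (R₁ ⊗[R] S) ≃ₐ[p.ResidueField] p.Fiber S :=
    ((Algebra.TensorProduct.cancelBaseChange _ _ P₁.ResidueField _ _).restrictScalars _).trans
      (Algebra.TensorProduct.congr (.symm <| .ofBijective (Algebra.ofId _ _) H) .refl)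
  let Qt : PrimeSpectrum (P₁.Fiber (R₁ ⊗[R] S)) :=
    PrimeSpectrum.primesOverOrderIsoFiber R₁ (R₁ ⊗[R] S) P₁ ⟨Q, ‹_›, ‹_›⟩
  have hQt : Qt.asIdeal.comap
      (Algebra.TensorProduct.includeRight :
        (R₁ ⊗[R] S) →ₐ[R₁] P₁.Fiber (R₁ ⊗[R] S)).toRingHom = Q := by
    have := (PrimeSpectrum.primesOverOrderIsoFiber R₁ (R₁ ⊗[R] S) P₁).symm_apply_apply ⟨Q, ‹_›, ‹_›⟩
    exact congrArg Subtype.val this
  haveI : Algebra.QuasiFiniteAt P₁.ResidueField Qt.asIdeal :=
    Algebra.QuasiFiniteAt.baseChange Q Qt.asIdeal hQt.symm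
  haveI : Module.Finite p.ResidueField P₁.ResidueField :=
    Module.Finite.of_surjective (Algebra.linearMap p.ResidueField P₁.ResidueField) H.2
  haveI : Algebra.QuasiFiniteAt p.ResidueField Qt.asIdeal :=
    Algebra.QuasiFinite.trans p.ResidueField P₁.ResidueField (Localization.AtPrime Qt.asIdeal)
  let Q₀ : Ideal (p.Fiber S) := Qt.asIdeal.comap e.symm.toRingHom
  haveI : Algebra.QuasiFiniteAt p.ResidueField Q₀ := inferInstance
  have hQ₀ : Q₀.comap (Algebra.TensorProduct.includeRight : S →ₐ[R] p.Fiber S).toRingHom = q := by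
    rw [← hq, ← hQt]
    ext s
    simp only [Q₀, Ideal.mem_comap, AlgHom.toRingHom_eq_coe, RingHom.coe_coe,
      Algebra.TensorProduct.includeRight_apply]
    have : e.symm ((1 : p.ResidueField) ⊗ₜ[R] s) =
        (1 : P₁.ResidueField) ⊗ₜ[R₁] ((1 : R₁) ⊗ₜ[R] s) := by
      simp [e]
    change e.symm ((1 : p.ResidueField) ⊗ₜ[R] s) ∈ Qt.asIdeal ↔ _
    rw [this]
  exact Algebra.QuasiFiniteAt.of_quasiFiniteAt_residueField p q Q₀ hQ₀

end DESC

end Groth.Agent.H5.ET
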