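import Mathlib
import Groth.Agent.Lib.Helper5.ET.Q
import Groth.Agent.Lib.Helper5.ET.R
import Groth.Agent.Lib.Helper5.ET.S

set_option autoImplicit false

namespace Groth.Agent.H5.ET

open TensorProduct

universe u

section STEP

variable {R S R₁ : Type*} [CommRing R] [CommRing S] [CommRing R₁] [Algebra R S] [Algebra R R₁]
  [Algebra.FiniteType R S]
  (p : Ideal R) [p.IsPrime] (q : Ideal S) [q.IsPrime] [q.LiesOver p]
  (P₁ : Ideal R₁) [P₁.IsPrime] [P₁.LiesOver p]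
  (e : R₁ ⊗[R] S) (he : IsIdempotentElem e)
  (P' : Ideal (R₁ ⊗[R] S)) [P'.IsPrime] [P'.LiesOver P₁]

theorem liesOver_comap_includeRight (Q : Ideal (R₁ ⊗[R] S)) [Q.LiesOver P₁] :
    (Q.comap (Algebra.TensorProduct.includeRight : S →ₐ[R] R₁ ⊗[R] S).toRingHom).LiesOver p := by
  refine ⟨?_⟩
  ext x
  simp only [Ideal.under, Ideal.mem_comap, AlgHom.toRingHom_eq_coe, RingHom.coe_coe,
    Algebra.TensorProduct.includeRight_apply]
  have h1 : ((1 : R₁) ⊗ₜ[R] (algebraMap R S x) : R₁ ⊗[R] S) =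
      algebraMap R₁ (R₁ ⊗[R] S) (algebraMap R R₁ x) := by
    rw [Algebra.TensorProduct.algebraMap_apply, Algebra.algebraMap_self, RingHom.id_apply,
      Algebra.algebraMap_eq_smul_one (A := S) x, Algebra.algebraMap_eq_smul_one (A := R₁) x,
      TensorProduct.smul_tmul]
  rw [h1, ← Ideal.mem_comap, ← Ideal.under_def, ← Q.over_def P₁, P₁.over_def p, Ideal.under_def,
    Ideal.mem_comap]

include he in
theorem ncard_QFset_quotient_lt
    (hP'q : P'.comap (Algebra.TensorProduct.includeRight : S →ₐ[R] R₁ ⊗[R] S).toRingHom = q)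
    (heP' : e ∉ P') [Algebra.QuasiFiniteAt R q]
    (hbij : Function.Bijective
      (Ideal.ResidueField.mapₐ p P₁ (Algebra.ofId _ _) (P₁.over_def p))) :
    (QFset R₁ (S := (R₁ ⊗[R] S) ⧸ (Ideal.span {e} : Ideal (R₁ ⊗[R] S))) P₁).ncard <
      (QFset R (S := S) p).ncard := by
  have hfin : (QFset R (S := S) p).Finite := finite_QFset p
  have hqmem : q ∈ QFset R (S := S) p := ⟨inferInstance, inferInstance, inferInstance⟩
  refine lt_of_le_of_lt ?_ (Set.ncard_diff_singleton_lt_of_mem hqmem hfin)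
  let Φ : Ideal ((R₁ ⊗[R] S) ⧸ (Ideal.span {e} : Ideal (R₁ ⊗[R] S))) → Ideal S :=
    fun Qb => (Qb.comap (Ideal.Quotient.mk _)).comap
      (Algebra.TensorProduct.includeRight : S →ₐ[R] R₁ ⊗[R] S).toRingHom
  have hliesQ : ∀ Qb : Ideal ((R₁ ⊗[R] S) ⧸ (Ideal.span {e} : Ideal (R₁ ⊗[R] S))),
      Qb.LiesOver P₁ → (Qb.comap (Ideal.Quotient.mk _)).LiesOver P₁ := by
    intro Qb hQb
    refine ⟨?_⟩
    rw [Qb.over_def P₁]
    rfl
  refine Set.ncard_le_ncard_of_injOn Φ ?_ ?_ (hfin.subset Set.diff_subset)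
  · rintro Qb ⟨hQbprime, hQblies, hQbqf⟩
    haveI := hQbprime
    haveI := hQbqf
    haveI hQlies := hliesQ Qb hQblies
    haveI : Algebra.QuasiFiniteAt R₁ (Qb.comap (Ideal.Quotient.mk
        (Ideal.span {e} : Ideal (R₁ ⊗[R] S)))) := quasiFiniteAt_comap_mk_of_idempotent e he Qb
    haveI hq'lies : (Φ Qb).LiesOver p := liesOver_comap_includeRight p P₁ _
    haveI hq'prime : (Φ Qb).IsPrime := Ideal.comap_isPrime _ _
    have hq'qf : Algebra.QuasiFiniteAt R (Φ Qb) :=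
      quasiFiniteAt_descent hbij (Qb.comap (Ideal.Quotient.mk _)) (Φ Qb) rfl
    refine ⟨⟨hq'prime, hq'lies, hq'qf⟩, ?_⟩
    rw [Set.mem_singleton_iff]
    intro hEq
    have h1 : P' = Qb.comap (Ideal.Quotient.mk (Ideal.span {e} : Ideal (R₁ ⊗[R] S))) :=
      Ideal.eq_of_comap_eq_comap_of_bijective_residueFieldMap hbij _ _ (hP'q.trans hEq.symm)
    apply heP'
    rw [h1, Ideal.mem_comap, Ideal.Quotient.eq_zero_iff_mem.mpr (Ideal.mem_span_singleton_self e)]
    exact Qb.zero_mem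
  · rintro Qb₁ ⟨hQb₁prime, hQb₁lies, -⟩ Qb₂ ⟨hQb₂prime, hQb₂lies, -⟩ hEq
    haveI := hQb₁prime
    haveI := hQb₂prime
    haveI := hliesQ Qb₁ hQb₁lies
    haveI := hliesQ Qb₂ hQb₂lies
    have h1 : Qb₁.comap (Ideal.Quotient.mk (Ideal.span {e} : Ideal (R₁ ⊗[R] S))) =
        Qb₂.comap (Ideal.Quotient.mk (Ideal.span {e} : Ideal (R₁ ⊗[R] S))) :=
      Ideal.eq_of_comap_eq_comap_of_bijective_residueFieldMap hbij _ _ hEq
    exact Ideal.comap_injective_of_surjective _ Ideal.Quotient.mk_surjective h1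

end STEP

end Groth.Agent.H5.ET
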