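import Mathlib
import Groth.Agent.Lib.Helper5.ET.E

set_option autoImplicit false

namespace Groth.Agent.H5.ET

open TensorProduct

universe u

section uniq

variable {R' T : Type*} [CommRing R'] [CommRing T] [Algebra R' T] (P : Ideal R') [P.IsPrime]
  (e : T) (he : IsIdempotentElem e) (P' : Ideal T) [P'.IsPrime] [P'.LiesOver P]

include he in
theorem existsUnique_prime_quotient (heP' : e ∉ P')
    (huniq : ∀ P'' : Ideal T, P''.IsPrime → P''.LiesOver P → e ∉ P'' → P'' = P') :
    ∃! r : Ideal (T ⧸ (Ideal.span {1 - e} : Ideal T)), r.IsPrime ∧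
      r.comap (algebraMap R' (T ⧸ (Ideal.span {1 - e} : Ideal T))) = P := by
  have h1e : 1 - e ∈ P' := one_sub_mem_of_notMem e he P' heP'
  have hker : RingHom.ker (Ideal.Quotient.mk (Ideal.span {1 - e} : Ideal T)) ≤ P' := by
    rw [Ideal.mk_ker, Ideal.span_le]
    intro x hx
    rw [Set.mem_singleton_iff.mp hx]
    exact h1e
  let r : Ideal (T ⧸ (Ideal.span {1 - e} : Ideal T)) :=
    P'.map (Ideal.Quotient.mk (Ideal.span {1 - e}))
  have hrprime : r.IsPrime :=
    Ideal.map_isPrime_of_surjective Ideal.Quotient.mk_surjective hker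
  have hrcomap : r.comap (Ideal.Quotient.mk (Ideal.span {1 - e} : Ideal T)) = P' := by
    rw [Ideal.comap_map_of_surjective _ Ideal.Quotient.mk_surjective, ← RingHom.ker_eq_comap_bot]
    exact sup_eq_left.mpr hker
  refine ⟨r, ⟨hrprime, ?_⟩, ?_⟩
  · have : r.comap (algebraMap R' (T ⧸ (Ideal.span {1 - e} : Ideal T))) =
        (r.comap (Ideal.Quotient.mk (Ideal.span {1 - e} : Ideal T))).comap (algebraMap R' T) := by
      rw [Ideal.comap_comap]; rfl
    rw [this, hrcomap]
    exact (P'.over_def P).symm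
  · rintro r' ⟨hr'prime, hr'comap⟩
    have h2 : (r'.comap (Ideal.Quotient.mk (Ideal.span {1 - e} : Ideal T))).IsPrime :=
      Ideal.comap_isPrime _ _
    have h3 : (r'.comap (Ideal.Quotient.mk (Ideal.span {1 - e} : Ideal T))).LiesOver P := by
      refine ⟨?_⟩
      rw [Ideal.under, Ideal.comap_comap, ← hr'comap]
      rfl
    have h4 : e ∉ r'.comap (Ideal.Quotient.mk (Ideal.span {1 - e} : Ideal T)) := by
      intro h
      have h5 : (1 - e) ∈ r'.comap (Ideal.Quotient.mk (Ideal.span {1 - e} : Ideal T)) := by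
        rw [Ideal.mem_comap, Ideal.Quotient.eq_zero_iff_mem.mpr (Ideal.mem_span_singleton_self _)]
        exact r'.zero_mem
      have h6 := add_mem h h5
      rw [add_sub_cancel] at h6
      exact h2.ne_top ((Ideal.eq_top_iff_one _).mpr h6)
    have h7 := huniq _ h2 h3 h4
    rw [← Ideal.map_comap_of_surjective _ Ideal.Quotient.mk_surjective r', h7]

end uniq

section uniqBC

variable {R₁ R₂ A : Type*} [CommRing R₁] [CommRing R₂] [CommRing A] [Algebra R₁ R₂] [Algebra R₁ A]
  {P₁ : Ideal R₁} {P₂ : Ideal R₂} [P₁.IsPrime] [P₂.IsPrime] [P₂.LiesOver P₁]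

theorem existsUnique_prime_baseChange
    (H : Function.Bijective (Ideal.ResidueField.mapₐ P₁ P₂ (Algebra.ofId _ _) (P₂.over_def P₁)))
    (hA : ∃! r : Ideal A, r.IsPrime ∧ r.comap (algebraMap R₁ A) = P₁) :
    ∃! r : Ideal (R₂ ⊗[R₁] A), r.IsPrime ∧ r.comap (algebraMap R₂ (R₂ ⊗[R₁] A)) = P₂ := by
  let F := Ideal.fiberIsoOfBijectiveResidueField (S := A) H
  obtain ⟨r₀, ⟨hr₀prime, hr₀comap⟩, hr₀uniq⟩ := hA
  let x₀ : P₁.primesOver A := ⟨r₀, hr₀prime, ⟨hr₀comap.symm⟩⟩
  refine ⟨(F.symm x₀).1, ⟨(F.symm x₀).2.1, ((F.symm x₀).2.2.over).symm⟩, ?_⟩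
  rintro r ⟨hrprime, hrcomap⟩
  let y : P₂.primesOver (R₂ ⊗[R₁] A) := ⟨r, hrprime, ⟨hrcomap.symm⟩⟩
  have h1 : F y = x₀ := by
    apply Subtype.ext
    exact hr₀uniq _ ⟨(F y).2.1, ((F y).2.2.over).symm⟩
  have h2 : y = F.symm x₀ := by rw [← h1, OrderIso.symm_apply_apply]
  exact congrArg Subtype.val h2

end uniqBC

section closure

variable {R R' : Type*} [CommRing R] [CommRing R'] [Algebra R R'] {p : Ideal R} {p' : Ideal R'}
  [p.IsPrime] [p'.IsPrime] [p'.LiesOver p]

theorem closure_eq_top_of_bijective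
    (H : Function.Bijective (Ideal.ResidueField.mapₐ p p' (Algebra.ofId _ _) (p'.over_def p))) :
    Subfield.closure (Set.range (algebraMap R p'.ResidueField)) = ⊤ := by
  rw [eq_top_iff]
  intro z _
  obtain ⟨w, rfl⟩ := H.2 z
  obtain ⟨x, s, hs, rfl⟩ := IsFractionRing.div_surjective (A := R ⧸ p) w
  obtain ⟨x, rfl⟩ := Ideal.Quotient.mk_surjective x
  obtain ⟨s, rfl⟩ := Ideal.Quotient.mk_surjective s
  rw [map_div₀]
  have key : ∀ y : R, (Ideal.ResidueField.mapₐ p p' (Algebra.ofId _ _) (p'.over_def p))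
      (algebraMap (R ⧸ p) p.ResidueField (Ideal.Quotient.mk p y)) ∈
      Subfield.closure (Set.range (algebraMap R p'.ResidueField)) := by
    intro y
    have : algebraMap (R ⧸ p) p.ResidueField (Ideal.Quotient.mk p y) =
        algebraMap R p.ResidueField y := rfl
    rw [this, AlgHom.commutes]
    exact Subfield.subset_closure ⟨y, rfl⟩
  exact Subfield.div_mem _ (key x) (key s)

end closure

end Groth.Agent.H5.ET
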