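import Mathlib
import Groth.Agent.Lib.Helper5.ET.K
import Groth.Agent.Lib.Helper5.ET.N
import Groth.Agent.Lib.Helper5.ET.T
import Groth.Agent.Lib.Helper5.ET.U

set_option autoImplicit false

namespace Groth.Agent.H5.ET

open TensorProduct

universe u

/-- bundled commutative algebras -/
structure BAlg (R : Type u) [CommRing R] where
  /-- the carrier -/
  carrier : Type u
  [commRing : CommRing carrier]
  [algebra : Algebra R carrier]

attribute [instance] BAlg.commRing BAlg.algebra

/-- products of bundled algebras indexed by `Fin (n+1)` -/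
def consBAlgEquiv (R : Type u) [CommRing R] {n : ℕ} (X : BAlg R) (𝒜 : Fin n → BAlg R) :
    (X.carrier × (∀ i : Fin n, (𝒜 i).carrier)) ≃ₐ[R]
      (∀ i : Fin (n + 1), ((Fin.cons X 𝒜 : Fin (n + 1) → BAlg R) i).carrier) where
  toFun x := Fin.cons (α := fun i => ((Fin.cons X 𝒜 : Fin (n + 1) → BAlg R) i).carrier) x.1 x.2
  invFun f := (f 0, fun i => f i.succ)
  left_inv x := rfl
  right_inv f := by
    funext i
    refine Fin.cases ?_ ?_ i
    · rfl
    · intro j; rfl
  map_mul' x y := by
    funext i
    refine Fin.cases ?_ ?_ i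
    · rfl
    · intro j; rfl
  map_add' x y := by
    funext i
    refine Fin.cases ?_ ?_ i
    · rfl
    · intro j; rfl
  commutes' r := by
    funext i
    refine Fin.cases ?_ ?_ i
    · rfl
    · intro j; rfl

end Groth.Agent.H5.ET
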