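import Mathlib
import Groth.Agent.Lib.Helper5.ET.V

set_option autoImplicit false

namespace Groth.Agent.H5.ET

open TensorProduct

universe u

theorem exists_qf_decomp (N : ℕ) : ∀ (R S : Type u) [CommRing R] [CommRing S] [Algebra R S]
    [Algebra.FiniteType R S] (p : Ideal R) [p.IsPrime], (QFset R (S := S) p).ncard = N →
    ∃ (R' : Type u) (_ : CommRing R') (_ : Algebra R R') (_ : Algebra.Etale R R') (p' : Ideal R')
      (_ : p'.IsPrime) (_ : p'.LiesOver p) (n : ℕ) (𝒜 : Fin n → BAlg R') (B : Type u)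
      (_ : CommRing B) (_ : Algebra R' B),
      Function.Bijective (Ideal.ResidueField.mapₐ p p' (Algebra.ofId _ _) (p'.over_def p)) ∧
      Nonempty ((R' ⊗[R] S) ≃ₐ[R'] ((∀ i, (𝒜 i).carrier) × B)) ∧
      (∀ i, Module.Finite R' (𝒜 i).carrier ∧
          ∃! r : Ideal (𝒜 i).carrier, r.IsPrime ∧ r.comap (algebraMap R' (𝒜 i).carrier) = p') ∧
      ∀ (q : Ideal B) [q.IsPrime], q.comap (algebraMap R' B) = p' →
        ¬ Algebra.QuasiFiniteAt R' q := by
  induction N using Nat.strong_induction_on with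
  | _ N IH =>
  intro R S _ _ _ _ p _ hN
  by_cases h : (QFset R (S := S) p).Nonempty
  · obtain ⟨q, hqprime, hqlies, hqqf⟩ := h
    haveI := hqprime
    haveI := hqlies
    haveI := hqqf
    obtain ⟨R₁, _, _, _, P₁, _, _, e, he, P', _, _, hP'q, heP', hbij, hfin, huniq⟩ :=
      Algebra.exists_etale_isIdempotentElem_forall_liesOver_eq p q
    let dec₁ := AlgEquiv.prodQuotientOfIsIdempotentElem R₁ (S := R₁ ⊗[R] S) (e := 1 - e) (f := e)
      he.one_sub he (sub_add_cancel _ _) (by rw [sub_mul, one_mul, he.eq, sub_self])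
    haveI hAfin : Module.Finite R₁ ((R₁ ⊗[R] S) ⧸ (Ideal.span {1 - e} : Ideal (R₁ ⊗[R] S))) :=
      finite_quotient_of_finite_away (AlgEquiv.refl (R := R₁) (A₁ := R₁ ⊗[R] S)) e he
    have hAuniq := existsUnique_prime_quotient P₁ e he P' heP' huniq
    have hlt := ncard_QFset_quotient_lt p q P₁ e he P' hP'q heP' hbij
    rw [hN] at hlt
    obtain ⟨R₂, _, _, _, P₂, _, _, n, 𝒜, B, _, _, hbij₂, ⟨iso₂⟩, h𝒜, hB⟩ :=
      IH _ hlt R₁ ((R₁ ⊗[R] S) ⧸ (Ideal.span {e} : Ideal (R₁ ⊗[R] S))) P₁ rfl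
    letI : Algebra R R₂ := Algebra.compHom R₂ (algebraMap R R₁)
    haveI : IsScalarTower R R₁ R₂ := IsScalarTower.of_algebraMap_eq' rfl
    haveI : Algebra.Etale R R₂ := Algebra.Etale.comp R R₁ R₂
    haveI : P₂.LiesOver p := Ideal.LiesOver.trans P₂ P₁ p
    have hpQ : Function.Bijective
        (Ideal.ResidueField.mapₐ p P₂ (Algebra.ofId _ _) (P₂.over_def p)) := by
      convert hbij₂.comp hbij
      rw [← @AlgHom.coe_restrictScalars' R R₁, ← AlgHom.coe_comp]; congr 1; ext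
    let X : BAlg R₂ :=
      ⟨R₂ ⊗[R₁] ((R₁ ⊗[R] S) ⧸ (Ideal.span {1 - e} : Ideal (R₁ ⊗[R] S)))⟩
    let c1 := (Algebra.TensorProduct.cancelBaseChange R R₁ R₂ R₂ S).symm
    let c2 : R₂ ⊗[R₁] (R₁ ⊗[R] S) ≃ₐ[R₂] R₂ ⊗[R₁]
        (((R₁ ⊗[R] S) ⧸ (Ideal.span {1 - e} : Ideal (R₁ ⊗[R] S))) ×
          ((R₁ ⊗[R] S) ⧸ (Ideal.span {e} : Ideal (R₁ ⊗[R] S)))) :=
      Algebra.TensorProduct.congr AlgEquiv.refl dec₁
    let c3 := Algebra.TensorProduct.prodRight R₁ R₂ R₂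
      ((R₁ ⊗[R] S) ⧸ (Ideal.span {1 - e} : Ideal (R₁ ⊗[R] S)))
      ((R₁ ⊗[R] S) ⧸ (Ideal.span {e} : Ideal (R₁ ⊗[R] S)))
    let c5 := AlgEquiv.prodCongr (AlgEquiv.refl (R := R₂) (A₁ := X.carrier)) iso₂
    let c6 := (prodAssocAlg R₂ X.carrier (∀ i, (𝒜 i).carrier) B).symm
    let c7 := AlgEquiv.prodCongr (consBAlgEquiv R₂ X 𝒜) (AlgEquiv.refl (R := R₂) (A₁ := B))
    refine ⟨R₂, inferInstance, inferInstance, inferInstance, P₂, inferInstance, inferInstance,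
      n + 1, Fin.cons X 𝒜, B, inferInstance, inferInstance, hpQ,
      ⟨(((((c1.trans c2).trans c3).trans c5).trans c6).trans c7)⟩, ?_, hB⟩
    intro i
    refine Fin.cases ?_ ?_ i
    · exact ⟨inferInstanceAs (Module.Finite R₂ (R₂ ⊗[R₁]
        ((R₁ ⊗[R] S) ⧸ (Ideal.span {1 - e} : Ideal (R₁ ⊗[R] S))))),
        existsUnique_prime_baseChange hbij₂ hAuniq⟩
    · intro j
      exact h𝒜 j
  · -- no quasi-finite prime over `p`
    refine ⟨R, inferInstance, inferInstance, inferInstance, p, inferInstance, ⟨?_⟩, 0,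
      fun i => i.elim0, S, inferInstance, inferInstance, ?_, ⟨?_⟩, fun i => i.elim0, ?_⟩
    · rw [Ideal.under, Algebra.algebraMap_self]
      exact (Ideal.comap_id p).symm
    · rw! [Algebra.ofId_self, Ideal.ResidueField.mapₐ_id]; exact Function.bijective_id
    · exact (Algebra.TensorProduct.lid R S).trans
        (AlgEquiv.uniqueProd : ((∀ i : Fin 0, ((fun i : Fin 0 => i.elim0 : Fin 0 → BAlg R) i).carrier)
          × S) ≃ₐ[R] S).symm
    · intro q hq hqp hqf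
      exact h ⟨q, hq, ⟨hqp.symm⟩, hqf⟩

end Groth.Agent.H5.ET
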