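import Mathlib
import Groth.Agent.Lib.Helper5.ET.W

set_option autoImplicit false

namespace Groth.Agent.H5.ET

open TensorProduct

universe u

theorem finiteType_qf_decomp (R : Type u) [CommRing R]
    (S : Type u) [CommRing S] [Algebra R S] [Algebra.FiniteType R S] (p : Ideal R) [p.IsPrime] :
    ∃ (R' : Type u) (_ : CommRing R') (_ : Algebra R R') (_ : Algebra.Etale R R') (p' : Ideal R')
      (_ : p'.IsPrime) (_ : p'.LiesOver p) (n : ℕ) (A : Fin n → Type u) (_ : ∀ i, CommRing (A i))
      (_ : ∀ i, Algebra R' (A i)) (B : Type u) (_ : CommRing B) (_ : Algebra R' B),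
      Subfield.closure (Set.range (algebraMap R p'.ResidueField)) = ⊤ ∧
      Nonempty ((R' ⊗[R] S) ≃ₐ[R'] ((∀ i, A i) × B)) ∧
        (∀ i, Module.Finite R' (A i) ∧
          ∃! r : Ideal (A i), r.IsPrime ∧ r.comap (algebraMap R' (A i)) = p') ∧
        ∀ (q : Ideal B) [q.IsPrime], q.comap (algebraMap R' B) = p' →
          ¬ Algebra.QuasiFiniteAt R' q := by
  obtain ⟨R', _, _, _, p', _, _, n, 𝒜, B, _, _, hbij, hiso, h𝒜, hB⟩ :=
    exists_qf_decomp _ R S p rfl
  exact ⟨R', inferInstance, inferInstance, inferInstance, p', inferInstance, inferInstance, n,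
    fun i => (𝒜 i).carrier, fun i => inferInstance, fun i => inferInstance, B, inferInstance,
    inferInstance, closure_eq_top_of_bijective hbij, hiso, h𝒜, hB⟩

end Groth.Agent.H5.ET
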